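import Mathlib

/-!
# Pulling apart a punctual ideal of the plane

`𝔞 = (f) + y 𝔠` with `f` monic in `x` and `𝔠 = (𝔞 : y)`; the family is `(f, (y - t) 𝔠)`.
-/

set_option autoImplicit false

noncomputable section

universe u

namespace Groth.Agent.Lib.PunctFam99

open Polynomial

variable {k : Type u} [Field k]

local notation "Aa" => MvPolynomial (Fin 2) k
local notation "Bb" => Polynomial (Polynomial k)

/-- `k[x_i, x_j] ≅ k[x_j][x_i]`. -/
theorem exists_iso (i j : Fin 2) (hij : i ≠ j) : ∃ e : MvPolynomial (Fin 2) k ≃ₐ[k] Polynomial (Polynomial k),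
    e (MvPolynomial.X i) = Polynomial.X ∧ e (MvPolynomial.X j) = Polynomial.C Polynomial.X := by
  classical
  let v : Fin 2 → Bb := fun l => if l = i then X else C X
  let g : Bb →ₐ[k] Aa :=
    { Polynomial.eval₂RingHom (Polynomial.aeval (MvPolynomial.X j : Aa)).toRingHom (MvPolynomial.X i : Aa) with
      commutes' := fun r => by simp [Polynomial.algebraMap_apply] }
  have hgC : ∀ q : Polynomial k, g (C q) = Polynomial.aeval (MvPolynomial.X j : Aa) q := fun q => by
    show Polynomial.eval₂ _ _ (C q) = _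
    rw [eval₂_C]; rfl
  have hgX : g X = MvPolynomial.X i := by
    show Polynomial.eval₂ _ _ X = _
    rw [eval₂_X]
  have hv : ∀ l, g (v l) = MvPolynomial.X l := by
    intro l
    by_cases h : l = i
    · simp [v, h, hgX]
    · have : l = j := by omega
      simp [v, h, hgC, this, hij.symm]
  have h1 : (MvPolynomial.aeval v).comp g = AlgHom.id k Bb := by
    refine Polynomial.algHom_ext' (Polynomial.algHom_ext ?_) ?_
    · show MvPolynomial.aeval v (g (C X)) = C X
      simp [hgC, v, hij.symm]
    · show MvPolynomial.aeval v (g X) = X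
      simp [hgX, v]
  refine ⟨AlgEquiv.ofAlgHom (MvPolynomial.aeval v) g h1 (MvPolynomial.algHom_ext fun l => by simp [hv]), by simp [v],
    by simp [v, hij.symm]⟩

theorem mem_span_sub_of_eval (p : Fin 2 → k) (g : Aa) (hg : MvPolynomial.eval p g = 0) :
    g ∈ Ideal.span (Set.range fun i : Fin 2 => MvPolynomial.X i - MvPolynomial.C (p i)) := by
  have key : ∀ g : Aa, g - MvPolynomial.C (MvPolynomial.eval p g) ∈
      Ideal.span (Set.range fun i : Fin 2 => MvPolynomial.X i - MvPolynomial.C (p i)) := by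
    intro g
    induction g using MvPolynomial.induction_on with
    | C c => simp
    | add a b ha hb => rw [map_add, map_add, add_sub_add_comm]; exact add_mem ha hb
    | mul_X a i ha =>
      rw [map_mul, MvPolynomial.eval_X, map_mul,
        show a * MvPolynomial.X i - MvPolynomial.C (MvPolynomial.eval p a) * MvPolynomial.C (p i) =
          (a - MvPolynomial.C (MvPolynomial.eval p a)) * MvPolynomial.X i +
          MvPolynomial.C (MvPolynomial.eval p a) * (MvPolynomial.X i - MvPolynomial.C (p i)) by ring]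
      exact add_mem (Ideal.mul_mem_right _ _ ha) (Ideal.mul_mem_left _ _ (Ideal.subset_span ⟨i, rfl⟩))
  simpa [hg] using key g

/-- The generic part: a monic `f` and the decomposition, in `k[y][x]`. -/
theorem exists_monic (𝔟 : Ideal Bb) (M : ℕ) (hy : C (X ^ M) ∈ 𝔟) (N : ℕ) (hx : X ^ N ∈ 𝔟)
    (hle : ∀ g ∈ 𝔟, (g.map (Polynomial.evalRingHom (0 : k))).coeff 0 = 0) :
    ∃ f ∈ 𝔟, f.Monic ∧ 0 < f.natDegree ∧ ∀ g ∈ 𝔟, ∃ c, C X ∣ g - c * f := by
  classical
  set ρ : Bb →+* Polynomial k := Polynomial.mapRingHom (Polynomial.evalRingHom (0 : k)) with hρ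
  have hρs : Function.Surjective ρ := Polynomial.map_surjective _ (fun c => ⟨C c, by simp⟩)
  have hker : ∀ g : Bb, ρ g = 0 → C X ∣ g := fun g hg => by
    rw [C_dvd_iff_dvd_coeff]
    intro m
    rw [X_dvd_iff, coeff_zero_eq_eval_zero]
    have := congrArg (fun q => Polynomial.coeff q m) hg
    simpa [hρ, coeff_map] using this
  set J := 𝔟.map ρ with hJ
  obtain ⟨d, hd⟩ := (IsPrincipalIdealRing.principal J).principal
  have hd' : J = Ideal.span {d} := hd
  have hXN : X ^ N ∈ J := by
    have := Ideal.mem_map_of_mem ρ hx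
    simpa [hρ] using this
  rw [hd', Ideal.mem_span_singleton] at hXN
  obtain ⟨a, -, hassoc⟩ := (dvd_prime_pow Polynomial.prime_X N).1 hXN
  have hJa : J = Ideal.span {(X : Polynomial k) ^ a} := hd'.trans (Ideal.span_singleton_eq_span_singleton.2 hassoc)
  have ha : 0 < a := by
    by_contra h
    have h1 : (1 : Polynomial k) ∈ J := by
      rw [hJa, show a = 0 by omega, pow_zero]; exact Ideal.mem_span_singleton_self _
    obtain ⟨g, hg, hg1⟩ := (Ideal.mem_map_iff_of_surjective ρ hρs).1 h1
    have := hle g hg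
    rw [show g.map (Polynomial.evalRingHom (0 : k)) = 1 from hg1, coeff_one_zero] at this
    exact one_ne_zero this
  have hdiv : ∀ h : Bb, ∃ r : Bb, r.degree < (a : ℕ) ∧ ∃ h' : Bb, h - r - C X * h' ∈ 𝔟 := by
    intro h
    set q := ρ h /ₘ X ^ a
    set s := ρ h %ₘ X ^ a
    obtain ⟨g, hg, hg'⟩ := (Ideal.mem_map_iff_of_surjective ρ hρs).1
      (show X ^ a * q ∈ J by rw [hJa]; exact Ideal.mul_mem_right _ _ (Ideal.mem_span_singleton_self _))
    refine ⟨s.map (C : k →+* Polynomial k), lt_of_le_of_lt Polynomial.degree_map_le ?_, ?_⟩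
    · have := degree_modByMonic_lt (ρ h) (monic_X_pow (R := k) a)
      rwa [degree_X_pow] at this
    · obtain ⟨h', hh'⟩ := hker (h - s.map (C : k →+* Polynomial k) - g) (by
        have e3 : ρ (s.map (C : k →+* Polynomial k)) = s := by
          rw [hρ, coe_mapRingHom, map_map,
            show (Polynomial.evalRingHom (0 : k)).comp C = RingHom.id k from RingHom.ext fun c => by simp, map_id]
        rw [map_sub, map_sub, hg', e3]
        have := modByMonic_add_div (ρ h) (q := X ^ a)
        linear_combination -this)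
      exact ⟨h', by rw [← hh']; simpa using hg⟩
  have hred : ∀ (m : ℕ) (h : Bb), ∃ r : Bb, r.degree < (a : ℕ) ∧ ∃ h' : Bb, h - r - C X ^ m * h' ∈ 𝔟 := by
    intro m
    induction m with
    | zero => exact fun h => ⟨0, by simpa using WithBot.bot_lt_coe a, h, by simp⟩
    | succ m ih =>
      intro h
      obtain ⟨r, hr, h', hh'⟩ := ih h
      obtain ⟨s, hs, h'', hh''⟩ := hdiv h'
      refine ⟨r + C X ^ m * s, lt_of_le_of_lt (degree_add_le _ _) (max_lt hr ?_), h'', ?_⟩
      · rw [← C_pow]
        exact lt_of_le_of_lt (degree_mul_le _ _)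
          (lt_of_le_of_lt (add_le_add degree_C_le le_rfl) (by rwa [zero_add]))
      · convert add_mem hh' (Ideal.mul_mem_left _ (C X ^ m) hh'') using 1
        ring
  obtain ⟨r, hr, h', hh'⟩ := hred M (X ^ a)
  have hfmem : X ^ a - r ∈ 𝔟 := by
    have := add_mem hh' (Ideal.mul_mem_right h' _ hy)
    rw [C_pow, sub_add_cancel] at this
    exact this
  have hfm : (X ^ a - r).Monic := monic_X_pow_sub hr
  have hfd : (X ^ a - r).natDegree = a := by
    refine natDegree_eq_of_degree_eq_some ?_
    rw [degree_sub_eq_left_of_degree_lt (by rwa [degree_X_pow]), degree_X_pow]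
  refine ⟨X ^ a - r, hfmem, hfm, by rw [hfd]; exact ha, fun g hg => ?_⟩
  have hρf : ρ (X ^ a - r) = X ^ a := by
    obtain ⟨w, hw⟩ := Ideal.mem_span_singleton'.1 (show ρ (X ^ a - r) ∈ _ from hJa ▸ (hJ ▸ Ideal.mem_map_of_mem ρ hfmem : ρ (X ^ a - r) ∈ J))
    have hm : (ρ (X ^ a - r)).Monic := hfm.map _
    have hdeg : (ρ (X ^ a - r)).natDegree = a := by
      rw [hρ, coe_mapRingHom, hfm.natDegree_map, hfd]
    exact (Polynomial.eq_of_monic_of_dvd_of_natDegree_le (monic_X_pow a) hm ⟨w, by rw [← hw, mul_comm]⟩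
      (by rw [natDegree_X_pow, hdeg]))
  obtain ⟨w, hw⟩ := Ideal.mem_span_singleton'.1 (show ρ g ∈ _ from hJa ▸ (hJ ▸ Ideal.mem_map_of_mem ρ hg : ρ g ∈ J))
  obtain ⟨w', rfl⟩ := hρs w
  exact ⟨w', hker _ (by rw [map_sub, map_mul, hρf, hw, sub_self])⟩

theorem finite_of {S : Type u} [CommRing S] (φ : Polynomial k →+* S) (x y : S) (N : ℕ)
    (hy : (y - φ X) * y ^ N = 0) (F : Bb) (hF : F.Monic)
    (hx : Polynomial.eval₂ (Polynomial.eval₂RingHom (φ.comp C) y) x F = 0)
    (hgen : Subring.closure (Set.range φ ∪ {x, y}) = ⊤) : φ.Finite := by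
  letI := φ.toAlgebra
  show Module.Finite (Polynomial k) S
  have halg : algebraMap (Polynomial k) S = φ := rfl
  have hyint : IsIntegral (Polynomial k) y :=
    ⟨(X - C (X : Polynomial k)) * X ^ N, (monic_X_sub_C _).mul (monic_X_pow N), by simp [halg, hy]⟩
  have hxint : IsIntegral (Polynomial k) x := by
    let T := Algebra.adjoin (Polynomial k) {y}
    haveI : Algebra.IsIntegral (Polynomial k) T := Algebra.IsIntegral.adjoin fun z hz => hz ▸ hyint
    refine isIntegral_trans (A := T) _ ⟨F.map (Polynomial.eval₂RingHom ((algebraMap (Polynomial k) T).comp C)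
      (⟨y, Algebra.self_mem_adjoin_singleton _ _⟩ : T)), hF.map _, ?_⟩
    rw [eval₂_map, ← hx]
    congr 1
    refine Polynomial.ringHom_ext (fun r => ?_) ?_
    · simp only [RingHom.comp_apply, coe_eval₂RingHom, eval₂_C]
      rfl
    · simp only [RingHom.comp_apply, coe_eval₂RingHom, eval₂_X]
      rfl
  have htop : ∀ z : S, z ∈ Algebra.adjoin (Polynomial k) ({x, y} : Set S) := by
    intro z
    have hle : Subring.closure (Set.range φ ∪ {x, y}) ≤ (Algebra.adjoin (Polynomial k) ({x, y} : Set S)).toSubring := by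
      rw [Subring.closure_le]
      rintro w (⟨q, rfl⟩ | hw)
      · exact Subalgebra.algebraMap_mem _ q
      · exact Algebra.subset_adjoin hw
    exact hle (hgen ▸ Subring.mem_top z)
  haveI : Algebra.IsIntegral (Polynomial k) S := ⟨fun z => Algebra.IsIntegral.adjoin
    (S := ({x, y} : Set S)) (by rintro w (rfl | rfl); exacts [hxint, hyint]) |>.isIntegral (⟨z, htop z⟩ : Algebra.adjoin (Polynomial k) ({x, y} : Set S)) |>.map (Subalgebra.val _)⟩
  haveI : Algebra.FiniteType (Polynomial k) S :=
    ⟨Subalgebra.fg_def.2 ⟨{x, y}, Set.toFinite _, eq_top_iff.2 fun z _ => htop z⟩⟩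
  exact Algebra.IsIntegral.finite

theorem result [IsAlgClosed k] (𝔞 : Ideal Aa) (i j : Fin 2) (hij : i ≠ j) (hj : MvPolynomial.X j ∉ 𝔞)
    (hle : ∀ g ∈ 𝔞, MvPolynomial.eval 0 g = 0) (N : ℕ) (hN : ∀ l, MvPolynomial.X l ^ N ∈ 𝔞) :
    ∃ 𝔞' : Ideal Aa[X],
      RingHom.Flat (R := k[X]) (S := Aa[X] ⧸ 𝔞')
        ((Ideal.Quotient.mk 𝔞').comp (Polynomial.mapRingHom (algebraMap k Aa))) ∧
      RingHom.Finite (A := k[X]) (B := Aa[X] ⧸ 𝔞')
        ((Ideal.Quotient.mk 𝔞').comp (Polynomial.mapRingHom (algebraMap k Aa))) ∧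
      Ideal.map (Polynomial.evalRingHom (0 : Aa)) 𝔞' = 𝔞 ∧
      ∀ c : k, c ≠ 0 →
        Ideal.map (Polynomial.evalRingHom (MvPolynomial.C c)) 𝔞' ≤ Ideal.span {MvPolynomial.X 0, MvPolynomial.X 1} ∧
        ∃ p : Fin 2 → k, p ≠ 0 ∧
          Ideal.map (Polynomial.evalRingHom (MvPolynomial.C c)) 𝔞' ≤
            Ideal.span (Set.range (fun i : Fin 2 => MvPolynomial.X i - MvPolynomial.C (p i))) := by
  classical
  obtain ⟨e, hei, hej⟩ := exists_iso (k := k) i j hij
  set y : Aa := MvPolynomial.X j with hy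
  obtain ⟨f₀, hf₀, hfm, hfd, hdec⟩ := exists_monic (Ideal.map e 𝔞) N
    (by rw [C_pow, ← hej, ← map_pow]; exact Ideal.mem_map_of_mem _ (hN j)) N
    (by rw [← hei, ← map_pow]; exact Ideal.mem_map_of_mem _ (hN i))
    (fun g hg => by
      obtain ⟨q, hq, rfl⟩ := (Ideal.mem_map_iff_of_surjective e e.surjective).1 hg
      have hcomp : ∀ q : Aa, ((e q).map (Polynomial.evalRingHom (0 : k))).coeff 0 = MvPolynomial.eval 0 q := by
        intro q
        induction q using MvPolynomial.induction_on with
        | C c => rw [show e (MvPolynomial.C c) = C (C c) from e.commutes c]; simp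
        | add a b ha hb => rw [map_add, Polynomial.map_add, coeff_add, ha, hb, map_add]
        | mul_X a l ha =>
          rw [map_mul, Polynomial.map_mul, mul_coeff_zero, ha, map_mul]
          rcases (show l = i ∨ l = j by omega) with h | h <;> rw [h]
          · simp [hei]
          · rw [← hy, hej]; simp [hy]
      rw [hcomp, hle q hq])
  obtain ⟨f, hf, rfl⟩ := (Ideal.mem_map_iff_of_surjective e e.surjective).1 hf₀
  -- cofactor
  let 𝔠 : Ideal Aa := Submodule.comap (LinearMap.mulLeft Aa y) 𝔞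
  have hc : ∀ {z : Aa}, z ∈ 𝔠 ↔ y * z ∈ 𝔞 := Iff.rfl
  have hle𝔠 : 𝔞 ≤ 𝔠 := fun z hz => Ideal.mul_mem_left _ y hz
  have hm0 : ∀ z, MvPolynomial.eval 0 z = 0 → z ∈ Ideal.span {MvPolynomial.X 0, (MvPolynomial.X 1 : Aa)} := fun z hz => by
    have h := mem_span_sub_of_eval 0 z hz
    have e0 : (Set.range fun i : Fin 2 => (MvPolynomial.X i - MvPolynomial.C ((0 : Fin 2 → k) i) : Aa)) =
        {MvPolynomial.X 0, MvPolynomial.X 1} := by
      ext q; simp [Fin.exists_fin_two, eq_comm]
    rwa [e0] at h
  have h𝔠m : ∀ z ∈ 𝔠, MvPolynomial.eval 0 z = 0 := by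
    intro z hz
    by_contra h
    -- `z` is invertible modulo a power of the maximal ideal
    set u := MvPolynomial.eval 0 z
    have hnil : (z - MvPolynomial.C u) ∈ 𝔞.radical := by
      have := hm0 (z - MvPolynomial.C u) (by simp [u])
      refine (Ideal.span_le.2 ?_ : Ideal.span {MvPolynomial.X 0, (MvPolynomial.X 1 : Aa)} ≤ 𝔞.radical) this
      intro q hq
      rcases hq with rfl | rfl <;> exact ⟨N, hN _⟩
    have hunit : IsUnit (Ideal.Quotient.mk 𝔞 z) := by
      have h1 : IsNilpotent (Ideal.Quotient.mk 𝔞 (z - MvPolynomial.C u)) := by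
        obtain ⟨m, hm⟩ := hnil
        exact ⟨m, by rw [← map_pow, Ideal.Quotient.eq_zero_iff_mem]; exact hm⟩
      have h2 : IsUnit (Ideal.Quotient.mk 𝔞 (MvPolynomial.C u)) := ((isUnit_iff_ne_zero.2 h).map MvPolynomial.C).map _
      have h3 := h1.isUnit_add_left_of_commute h2 (Commute.all _ _)
      rwa [← map_add, add_sub_cancel] at h3
    refine hj (Ideal.Quotient.eq_zero_iff_mem.1 ((hunit.mul_left_eq_zero (a := Ideal.Quotient.mk 𝔞 y)).1 ?_))
    rw [← map_mul]
    exact Ideal.Quotient.eq_zero_iff_mem.2 hz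
  -- the family
  let G : Ideal Aa[X] := Ideal.span {Polynomial.C f} ⊔ Ideal.span {Polynomial.C y - Polynomial.X} * Ideal.map Polynomial.C 𝔠
  have hev : ∀ z : Aa, Ideal.map (Polynomial.evalRingHom z) G = Ideal.span {f} ⊔ Ideal.span {y - z} * 𝔠 := fun z => by
    rw [Ideal.map_sup, Ideal.map_mul, Ideal.map_span, Ideal.map_span, Set.image_singleton, Set.image_singleton,
      Ideal.map_map, show (Polynomial.evalRingHom z).comp Polynomial.C = RingHom.id Aa from RingHom.ext fun r => by simp,
      Ideal.map_id]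
    simp
  -- polynomials in `y` are non-zero-divisors modulo `f`
  have hf0 : f ≠ 0 := fun h => hfm.ne_zero (by rw [h, map_zero])
  have hnzd : ∀ (q : Polynomial k), q ≠ 0 → ∀ z : Aa, f ∣ Polynomial.aeval y q * z → f ∣ z := by
    intro q hq z hz
    have h1 : e f ∣ C q * e z := by
      have := map_dvd e hz
      rwa [map_mul, ← Polynomial.aeval_algHom_apply e y q, hej,
        show Polynomial.aeval (C X : Bb) q = C q by
          rw [show (C X : Bb) = (IsScalarTower.toAlgHom k (Polynomial k) Bb) X from rfl, Polynomial.aeval_algHom_apply,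
            Polynomial.aeval_X_left_apply]; rfl] at this
    have h2 : e f ∣ e z := by
      rw [← Polynomial.modByMonic_eq_zero_iff_dvd hfm] at h1 ⊢
      rw [← Polynomial.smul_eq_C_mul, Polynomial.smul_modByMonic, smul_eq_zero] at h1
      exact h1.resolve_left hq
    simpa using map_dvd e.symm h2
  -- substitution `t ↦ y`
  have hdvd : ∀ u : Aa[X], Polynomial.eval y u = 0 → Polynomial.C y - Polynomial.X ∣ u := fun u hu => by
    obtain ⟨w, rfl⟩ := Polynomial.dvd_iff_isRoot.2 hu
    exact ⟨-w, by ring⟩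
  have hsubst : ∀ z : Aa[X], f ∣ Polynomial.eval y z → ∃ u w : Aa[X], z = Polynomial.C f * u + (Polynomial.C y - Polynomial.X) * w := by
    rintro z ⟨c, hc⟩
    obtain ⟨w, hw⟩ := hdvd (z - Polynomial.C f * Polynomial.C c) (by simp [hc])
    exact ⟨Polynomial.C c, w, by linear_combination hw⟩
  have hcancel : ∀ u w : Aa[X], Polynomial.C f * u = (Polynomial.C y - Polynomial.X) * w →
      ∃ u', w = Polynomial.C f * u' := by
    intro u w h
    have h0 := congrArg (Polynomial.eval y) h
    simp only [eval_mul, eval_C, eval_sub, eval_X, sub_self, zero_mul, mul_eq_zero] at h0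
    obtain ⟨u', rfl⟩ := hdvd u (h0.resolve_left hf0)
    refine ⟨u', mul_left_cancel₀ (show (Polynomial.C y - Polynomial.X : Aa[X]) ≠ 0 from fun h => ?_) (by linear_combination -h)⟩
    have := congrArg (fun q => Polynomial.coeff q 1) h
    simp at this
  set ι : k[X] →+* Aa[X] := Polynomial.mapRingHom (algebraMap k Aa) with hι
  have htf : ∀ (q : k[X]) (z : Aa[X]), q ≠ 0 → ι q * z ∈ G → z ∈ G := by
    intro q z hq hz
    obtain ⟨g₁, hg₁, g₂, hg₂, hsum⟩ := Submodule.mem_sup.1 hz
    obtain ⟨u₁, rfl⟩ := Ideal.mem_span_singleton'.1 hg₁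
    obtain ⟨w₁, hw₁, rfl⟩ := Ideal.mem_span_singleton_mul.1 hg₂
    obtain ⟨u, w, rfl⟩ := hsubst z (hnzd q hq _ (by
      have := congrArg (Polynomial.eval y) hsum
      simp only [eval_add, eval_mul, eval_C, eval_sub, eval_X, sub_self, zero_mul, add_zero] at this
      rw [hι, Polynomial.coe_mapRingHom, Polynomial.eval_map] at this
      rw [Polynomial.aeval_def, ← this]
      exact dvd_mul_left _ _))
    obtain ⟨u', hu'⟩ := hcancel (u₁ - ι q * u) (ι q * w - w₁) (by linear_combination hsum)
    have hw : ι q * w ∈ Ideal.map Polynomial.C 𝔠 := by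
      rw [show ι q * w = w₁ + Polynomial.C f * u' by linear_combination hu']
      exact add_mem hw₁ (Ideal.mul_mem_right _ _ (Ideal.mem_map_of_mem _ (hle𝔠 hf)))
    refine add_mem (Ideal.mem_sup_left (Ideal.mul_mem_right _ _ (Ideal.mem_span_singleton_self _)))
      (Ideal.mem_sup_right (Ideal.mul_mem_mul (Ideal.mem_span_singleton_self _) ?_))
    -- `(Aa/𝔠)[t]` is torsion free
    have hk : Polynomial.map (Ideal.Quotient.mk 𝔠) (ι q * w) = 0 := by
      rwa [← Polynomial.coe_mapRingHom, ← RingHom.mem_ker, Polynomial.ker_mapRingHom, Ideal.mk_ker]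
    rw [Polynomial.map_mul, hι, Polynomial.coe_mapRingHom, Polynomial.map_map] at hk
    rw [← Ideal.mk_ker (I := 𝔠), ← Polynomial.ker_mapRingHom, RingHom.mem_ker, Polynomial.coe_mapRingHom]
    by_contra hw0
    set W := Polynomial.map (Ideal.Quotient.mk 𝔠) w
    have hlead := congrArg (fun r => Polynomial.coeff r (q.natDegree + W.natDegree)) hk
    have hdegq : (Polynomial.map ((Ideal.Quotient.mk 𝔠).comp (algebraMap k Aa)) q).natDegree ≤ q.natDegree :=
      Polynomial.natDegree_map_le
    simp only [Polynomial.coeff_mul_add_eq_of_natDegree_le hdegq le_rfl, Polynomial.coeff_zero,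
      Polynomial.coeff_map] at hlead
    exact Polynomial.leadingCoeff_ne_zero.2 hw0
      ((((isUnit_iff_ne_zero.2 (Polynomial.leadingCoeff_ne_zero.2 hq)).map
        ((Ideal.Quotient.mk 𝔠).comp (algebraMap k Aa))).mul_right_eq_zero).1 hlead)
  refine ⟨G, ?_, ?_, ?_, ?_⟩
  · show @Module.Flat k[X] (Aa[X] ⧸ G) _ _ (RingHom.toAlgebra (R := k[X]) (S := Aa[X] ⧸ G) ((Ideal.Quotient.mk G).comp ι)).toModule
    letI := RingHom.toAlgebra (R := k[X]) (S := Aa[X] ⧸ G) ((Ideal.Quotient.mk G).comp ι)
    rw [IsDedekindDomain.flat_iff_torsion_eq_bot, Submodule.eq_bot_iff]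
    rintro z ⟨⟨q, hq⟩, hqz⟩
    obtain ⟨z, rfl⟩ := Ideal.Quotient.mk_surjective z
    change Ideal.Quotient.mk G (ι q) * Ideal.Quotient.mk G z = 0 at hqz
    rw [← map_mul, Ideal.Quotient.eq_zero_iff_mem] at hqz
    exact Ideal.Quotient.eq_zero_iff_mem.2 (htf q z (nonZeroDivisors.ne_zero hq) hqz)
  · set π := Ideal.Quotient.mk G with hπ
    refine finite_of (π.comp ι) (π (Polynomial.C (MvPolynomial.X i))) (π (Polynomial.C y)) N ?_ (e f) hfm ?_ ?_
    · rw [RingHom.comp_apply, hι, coe_mapRingHom, Polynomial.map_X, ← map_sub, ← map_pow, ← map_mul, hπ,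
        Ideal.Quotient.eq_zero_iff_mem, ← map_pow]
      exact Ideal.mem_sup_right (Ideal.mul_mem_mul (Ideal.mem_span_singleton_self _)
        (Ideal.mem_map_of_mem _ (hle𝔠 (hN j))))
    · have hΦ : (Polynomial.eval₂RingHom (Polynomial.eval₂RingHom ((π.comp ι).comp C) (π (Polynomial.C y)))
          (π (Polynomial.C (MvPolynomial.X i)))).comp e.toRingEquiv.toRingHom = π.comp Polynomial.C := by
        refine MvPolynomial.ringHom_ext (fun r => ?_) (fun l => ?_)
        · show Polynomial.eval₂ _ _ (e (MvPolynomial.C r)) = π (Polynomial.C (MvPolynomial.C r))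
          rw [show e (MvPolynomial.C r) = C (C r) from e.commutes r, eval₂_C, coe_eval₂RingHom, eval₂_C,
            RingHom.comp_apply, RingHom.comp_apply, hι, coe_mapRingHom, Polynomial.map_C]
          rfl
        · show Polynomial.eval₂ _ _ (e (MvPolynomial.X l)) = π (Polynomial.C (MvPolynomial.X l))
          rcases (show l = i ∨ l = j by omega) with h | h <;> rw [h]
          · rw [hei, eval₂_X]
          · rw [← hy, hej, eval₂_C, coe_eval₂RingHom, eval₂_X]
      have h1 : Polynomial.eval₂ _ _ (e f) = π (Polynomial.C f) := RingHom.congr_fun hΦ f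
      refine h1.trans ?_
      exact Ideal.Quotient.eq_zero_iff_mem.2 (Ideal.mem_sup_left (Ideal.mem_span_singleton_self _))
    · rw [eq_top_iff]
      rintro z -
      obtain ⟨z, rfl⟩ := Ideal.Quotient.mk_surjective z
      set T := Subring.closure (Set.range (π.comp ι) ∪ {π (Polynomial.C (MvPolynomial.X i)), π (Polynomial.C y)})
      induction z using Polynomial.induction_on' with
      | add a b ha hb => rw [map_add]; exact T.add_mem ha hb
      | monomial m r =>
        rw [← C_mul_X_pow_eq_monomial, map_mul, map_pow]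
        refine T.mul_mem ?_ (T.pow_mem (Subring.subset_closure (Or.inl ⟨Polynomial.X, by rw [RingHom.comp_apply, hι, coe_mapRingHom, Polynomial.map_X]⟩)) m)
        induction r using MvPolynomial.induction_on with
        | C c =>
          refine Subring.subset_closure (Or.inl ⟨Polynomial.C c, ?_⟩)
          rw [RingHom.comp_apply, hι, coe_mapRingHom, Polynomial.map_C]
          rfl
        | add a b ha hb => rw [map_add, map_add]; exact T.add_mem ha hb
        | mul_X a l ha =>
          rw [map_mul, map_mul]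
          refine T.mul_mem ha (Subring.subset_closure (Or.inr ?_))
          rcases (show l = i ∨ l = j by omega) with h | h <;> rw [h]
          · exact Or.inl rfl
          · exact Or.inr rfl
  · rw [hev, sub_zero]
    refine le_antisymm (sup_le ((Ideal.span_singleton_le_iff_mem _).2 hf) ?_) fun g hg => ?_
    · rw [Ideal.mul_le]
      intro r hr s hs
      obtain ⟨c, rfl⟩ := Ideal.mem_span_singleton'.1 hr
      rw [mul_assoc]
      exact Ideal.mul_mem_left _ c (hc.1 hs)
    · obtain ⟨c, hc'⟩ := hdec _ (Ideal.mem_map_of_mem e hg)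
      obtain ⟨d, hd⟩ : y ∣ g - e.symm c * f := by
        have := map_dvd e.symm hc'
        rwa [map_sub, map_mul, AlgEquiv.symm_apply_apply, AlgEquiv.symm_apply_apply, ← hej, AlgEquiv.symm_apply_apply] at this
      rw [show g = e.symm c * f + y * d by linear_combination hd]
      refine Submodule.add_mem_sup (Ideal.mul_mem_left _ _ (Ideal.mem_span_singleton_self _))
        (Ideal.mul_mem_mul (Ideal.mem_span_singleton_self _) (hc.2 ?_))
      rw [← hd]
      exact sub_mem hg (Ideal.mul_mem_left _ _ hf)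
  · intro c hc0
    rw [hev]
    refine ⟨sup_le ((Ideal.span_singleton_le_iff_mem _).2 (hm0 f (hle f hf))) ?_, ?_⟩
    · exact Ideal.mul_le_right.trans fun z hz => hm0 z (h𝔠m z hz)
    · have hdeg : ((e f).map (Polynomial.evalRingHom c)).degree ≠ 0 := by
        rw [degree_eq_natDegree (hfm.map _).ne_zero, hfm.natDegree_map]
        exact_mod_cast hfd.ne'
      obtain ⟨x₀, hx₀⟩ := IsAlgClosed.exists_root _ hdeg
      refine ⟨Function.update (fun _ => c) i x₀, fun h => hc0 ?_, ?_⟩
      · have := congrFun h j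
        simpa [Function.update_of_ne hij.symm] using this
      have hev2 : ∀ q : Aa, MvPolynomial.eval (Function.update (fun _ => c) i x₀) q =
          ((e q).map (Polynomial.evalRingHom c)).eval x₀ := by
        intro q
        induction q using MvPolynomial.induction_on with
        | C r => rw [show e (MvPolynomial.C r) = C (C r) from e.commutes r]; simp
        | add a b ha hb => rw [map_add, map_add, Polynomial.map_add, eval_add, ha, hb]
        | mul_X a l ha =>
          rw [map_mul, map_mul, Polynomial.map_mul, eval_mul, ha]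
          congr 1
          rcases (show l = i ∨ l = j by omega) with h | h <;> rw [h]
          · simp [hei]
          · rw [← hy, hej]; simp [hy, Function.update_of_ne hij.symm]
      refine sup_le ((Ideal.span_singleton_le_iff_mem _).2 (mem_span_sub_of_eval _ f ?_))
        (Ideal.mul_le_left.trans ((Ideal.span_singleton_le_iff_mem _).2 (mem_span_sub_of_eval _ _ ?_)))
      · rw [hev2]; exact hx₀
      · simp [hy, Function.update_of_ne hij.symm]

end Groth.Agent.Lib.PunctFam99
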